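import Groth.Agent.Lib.Quot16.Factor
import Groth.Agent.Lib.GerbAbs16.Chart

/-! Functors from an algebraic stack to a sheaf are determined on an atlas. -/

universe u

open CategoryTheory CategoryTheory.Functor CategoryTheory.Limits AlgebraicGeometry Opposite

set_option linter.style.haveILetI false
set_option linter.unusedSectionVars false
set_option backward.isDefEq.respectTransparency false
set_option backward.isDefEq.respectTransparency.types false

namespace Groth.Agent.Coarse16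

open Groth.Agent.FC16 hiding overMap
open Groth.Agent.StAlg Groth.Agent.StAlg16 AlgSt

variable {S : Scheme.{u}} {𝒳 : AlgSt.Cat S} {N : AlgSp.Sp S}

theorem pval_pre {𝒵 : AlgSt.Cat S} (F : 𝒵 ⥤ᵇ 𝒳) (φ : 𝒳 ⥤ᵇ AlgSt.ofSp N) (w : 𝒵.obj) :
    pval (BasedFunctor.comp F φ) w = N.obj.map (eqToHom (F.w_obj w).symm).op (pval φ (F.obj w)) := by
  unfold pval
  show N.obj.map (eqToHom _).op (φ.obj (F.obj w)).sec = N.obj.map _ (N.obj.map _ (φ.obj (F.obj w)).sec)
  refine ((Quot16.map_map (M := N) _ _ _).trans ?_).symm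
  congr 2
  simp

theorem eq_of_atlas (gX : FibCat.IsFibGrpd 𝒳.p) {U : Over S} {x : FibCat.overCat U ⥤ᵇ 𝒳}
    (hsm : AlgSt.RepByAlgSpWith (AlgSp.LocP @Smooth) x) (hsu : AlgSt.RepByAlgSpWith AlgSp.IsSurjectiveMor x)
    (φ ψ : 𝒳 ⥤ᵇ AlgSt.ofSp N) (h : BasedFunctor.comp x φ ≅ BasedFunctor.comp x ψ) : φ = ψ := by
  refine Quot16.ofPsh_functor_ext _ _ fun a => ?_
  haveI := FC16.isFibered gX
  let y := ofObj (𝒳 := 𝒳) (x := a) (U := 𝒳.p.obj a) rfl
  obtain ⟨T', k, m, _, _, _, ⟨j⟩⟩ :=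
    GerbAbs.Chart.exists_lift_cover gX (overCat_isFibGrpd U) hsm hsu y
  let w : (FibCat.overCat U).obj := m.obj (Over.mk (𝟙 T'))
  have hw : pval φ (x.obj w) = pval ψ (x.obj w) := by
    have e := pval_hom h.hom w
    rw [pval_pre, pval_pre] at e
    have e' := congrArg (N.obj.map (eqToHom (x.w_obj w)).op) e
    rw [Quot16.map_map, Quot16.map_map] at e'
    simpa using e'
  let n : (AlgSt.overMap k).obj (Over.mk (𝟙 T')) ⟶ Over.mk (𝟙 (𝒳.p.obj a)) :=
    Over.homMk k (by show k ≫ 𝟙 _ = 𝟙 T' ≫ k; simp)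
  haveI := ofObjIso_lift (𝒳 := 𝒳) (x := a) (U := 𝒳.p.obj a) rfl
  haveI l1 := isHomLift_appIso_hom j (Over.mk (𝟙 T')) (U := T') rfl
  haveI : (FibCat.overCat (𝒳.p.obj a)).p.IsHomLift k n := IsHomLift.map (FibCat.overCat (𝒳.p.obj a)).p n
  haveI : 𝒳.p.IsHomLift k (y.map n) := BasedFunctor.preserves_isHomLift y k n
  let α : x.obj w ⟶ a := (appIso j (Over.mk (𝟙 T'))).inv ≫ y.map n ≫ (ofObjIso (𝒳 := 𝒳) (x := a) rfl).hom
  haveI l : 𝒳.p.IsHomLift k α := by
    have := (inferInstance : 𝒳.p.IsHomLift (𝟙 T' ≫ k ≫ 𝟙 _)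
      ((appIso j (Over.mk (𝟙 T'))).inv ≫ y.map n ≫ (ofObjIso (𝒳 := 𝒳) (x := a) rfl).hom))
    simpa using this
  have e := hw
  rw [← pval_nat φ α, ← pval_nat ψ α, IsHomLift.fac' 𝒳.p k α] at e
  have hT : 𝒳.p.obj (x.obj w) = T' := IsHomLift.domain_eq 𝒳.p k α
  have e' : N.obj.map k.op (pval φ a) = N.obj.map k.op (pval ψ a) := by
    have e'' := congrArg (N.obj.map (eqToHom hT.symm).op) e
    rw [Quot16.map_map, Quot16.map_map] at e''
    simpa using e''
  refine (((isSheaf_iff_isSheaf_of_type _ _).1 N.property _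
    (GerbAbs.Chart.mem_of_cover k (Sieve.le_generate _ _ _ (Presieve.singleton_self k)))).isSeparatedFor).ext
    fun V l hl => ?_
  obtain ⟨_, l', _, ⟨⟩, rfl⟩ := hl
  rw [← Quot16.map_map, ← Quot16.map_map, e']

end Groth.Agent.Coarse16
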