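import Groth.Agent.Lib.Coarse16.Ext
import Groth.Agent.Lib.StAlg.DiagMor
import Groth.Agent.Lib.GerbAbs16.Space
import Groth.Agent.Lib.AlgSpace.Proper
import Groth.Agent.Lib.AlgSpDecent.ZeroDim
import Groth.Prelude.Def_StCoarse
import Mathlib.AlgebraicGeometry.ZariskisMainTheorem
import Mathlib.FieldTheory.IsAlgClosed.AlgebraicClosure

/-! A reduced stack bijective on geometric points over a space along which it has a section. -/

universe u

open CategoryTheory CategoryTheory.Functor CategoryTheory.Limits AlgebraicGeometry Opposite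

set_option linter.style.haveILetI false
set_option linter.unusedSectionVars false
set_option backward.isDefEq.respectTransparency false
set_option backward.isDefEq.respectTransparency.types false

namespace Groth.Agent.Coarse16

open Groth.Agent.FC16 hiding overMap
open Groth.Agent.StAlg Groth.Agent.StAlg16 AlgSt

variable {S : Scheme.{u}} {𝒳 : AlgSt.Cat S} {Z : AlgSp.Sp S} {f : 𝒳 ⥤ᵇ AlgSt.ofSp Z}
  {s : AlgSt.ofSp Z ⥤ᵇ 𝒳}

/-- a section of a morphism bijective on geometric points is surjective -/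
theorem isSurjective_section (gX : FibCat.IsFibGrpd 𝒳.p) (hf : AlgSt.GeomPtBij f)
    (e : BasedFunctor.comp s f ≅ BasedFunctor.id (AlgSt.ofSp Z)) : AlgSt.IsSurjective s := by
  intro z
  obtain ⟨p, rfl⟩ := Points.mk_surjective z
  let Ω := AlgebraicClosure p.K
  let i : CommRingCat.of p.K ⟶ CommRingCat.of Ω := CommRingCat.ofHom (algebraMap p.K Ω)
  let t : Spec (CommRingCat.of Ω) ⟶ S := Spec.map i ≫ p.str
  let d : Over.mk t ⟶ Over.mk p.str := Over.homMk (Spec.map i) rfl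
  obtain ⟨o, π, hπ⟩ := FC16.exists_lift gX p.lies d
  haveI := hπ
  let x : 𝒳.p.Fiber (Over.mk t) := ⟨o, IsHomLift.domain_eq 𝒳.p d π⟩
  let w : (AlgSt.ofSp Z).obj := ⟨Over.mk t, AlgSt.fibSec f x⟩
  let wf : (AlgSt.ofSp Z).p.Fiber (Over.mk t) := ⟨w, rfl⟩
  let x' : 𝒳.p.Fiber (Over.mk t) := GerbAbs.fibPush s wf
  have h : AlgSt.fibSec f x = AlgSt.fibSec f x' := by
    rw [← GerbAbs.fibSec_comp, GerbAbs.fibSec_eq_of_iso e wf]
    show w.sec = Z.obj.map (eqToHom _).op w.sec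
    simp
  obtain ⟨k⟩ := (hf Ω t).2 x x' h
  let q : FPt (AlgSt.ofSp Z) := { K := Ω, str := t, obj := w, lies := rfl }
  refine ⟨Points.mk q, (Points.sound (p := q.map s) (q := p) ?_)⟩
  exact ⟨q.map s, 𝟙 _, k.inv.1 ≫ π, trivial⟩

/-- functors to a space are determined by their restriction along a proper surjection, on a reduced stack -/
theorem eq_of_proper_surjective (h𝒳 : IsAlgStack Scheme.fppfPrecoverage 𝒳) (hZ : AlgSp.IsAlgSpace Z)
    (hred : AlgSt.SmoothLocally (fun X => AlgebraicGeometry.IsReduced X) 𝒳)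
    (hs : AlgSt.RepByAlgSpWith AlgSp.IsProperMor s) (hsurj : AlgSt.IsSurjective s) {N : AlgSp.Sp S}
    (hN : AlgSp.IsAlgSpace N) (φ ψ : 𝒳 ⥤ᵇ AlgSt.ofSp N)
    (h : BasedFunctor.comp s φ ≅ BasedFunctor.comp s ψ) : φ = ψ := by
  have gX := h𝒳.isStack.1
  have gZ := (isStack_ofSp Z).1
  obtain ⟨U, x, hsm, hsu⟩ := h𝒳.atlas
  haveI : AlgebraicGeometry.IsReduced U.left := hred U x hsm
  obtain ⟨A, E, hE, -, -, hcl⟩ := hs U x
  let Φ : AlgSt.ofSp A.obj ⥤ᵇ FibCat.overCat U := BasedFunctor.comp E (FibCat.fpFst x s)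
  let a : A.obj ⟶ (AlgSp.yon S).obj U := AlgSt.spMapOfOver Φ
  have hasurj : AlgSp.IsSurjectiveMor a := (surjective_spMapOfOver_iff _).2 fun z => by
    obtain ⟨w, hw⟩ := isSurjective_fpFst gZ gX (overCat_isFibGrpd U) x hsurj z
    obtain ⟨w', rfl⟩ := (map_bijective hE).2 w
    exact ⟨w', by rw [map_comp_apply, hw]⟩
  let sec : (𝒳 ⥤ᵇ AlgSt.ofSp N) → ((AlgSp.yon S).obj U ⟶ N) := fun χ =>
    ObjectProperty.homMk (mapOf (BasedFunctor.comp (AlgSt.toOverCat U) (BasedFunctor.comp x χ)))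
  have hcomp : ∀ χ, (a ≫ sec χ).hom = mapOf (BasedFunctor.comp Φ (BasedFunctor.comp x χ)) := fun χ => by
    show (AlgSt.spMapOfOver Φ).hom ≫ mapOf _ = _
    rw [spMapOfOver_hom, ← mapOf_comp]
    rfl
  have ha : a ≫ sec φ = a ≫ sec ψ := by
    apply ObjectProperty.hom_ext
    rw [hcomp, hcomp]
    exact mapOf_congr (wlIso E (wrIso (FibCat.fpIso x s) φ ≪≫ wlIso (FibCat.fpSnd x s) h ≪≫
      (wrIso (FibCat.fpIso x s) ψ).symm))
  let l := prod.lift (sec φ) (sec ψ)
  let R : Over S := hN.diag.pullback l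
  let j : R ⟶ U := hN.diag.snd l
  let q : (AlgSp.yon S).obj R ⟶ N := hN.diag.fst l
  have sq : IsPullback q ((AlgSp.yon S).map j) (Limits.diag N) l := hN.diag.isPullback l
  let r : A.obj ⟶ (AlgSp.yon S).obj R := sq.lift (a ≫ sec φ) a (by
    apply Limits.prod.hom_ext
    · simp [l]
    · simp [l, ha])
  have hr : r ≫ (AlgSp.yon S).map j = a := sq.lift_snd _ _ _
  haveI hmono : Mono j.left := (AlgSpace.repWith_diag_mono hN.diag).2 l q j sq
  haveI : LocallyOfFiniteType j.left := (AlgSpace.repWith_diag_lft hN).2 l q j sq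
  haveI : IsSeparated j.left := (AlgSpace.repWith_diag_isSeparated hN.diag).2 l q j sq
  have hji : Function.Injective (AlgSp.Points.map ((AlgSp.yon S).map j)) := by
    intro p p' hpp
    obtain ⟨t, rfl⟩ := (AlgSp.Points.schemeHomeo R).surjective p
    obtain ⟨t', rfl⟩ := (AlgSp.Points.schemeHomeo R).surjective p'
    rw [AlgSp.Points.map_yon_map_apply, AlgSp.Points.map_yon_map_apply] at hpp
    rw [j.left.injective ((AlgSp.Points.schemeHomeo U).injective hpp)]
  have hrs : Function.Surjective (AlgSp.Points.map r) := fun p => by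
    obtain ⟨w, hw⟩ := hasurj (AlgSp.Points.map ((AlgSp.yon S).map j) p)
    exact ⟨w, hji (by rw [← AlgSp.Points.map_comp, hr, hw])⟩
  haveI : UniversallyClosed j.left := by
    have hc := AlgSpace.isUnivClosedMor_of_surjective_source hrs (f := (AlgSp.yon S).map j) (hr.symm ▸ hcl)
    exact (AlgSp.repWith_yon_map_iff _ j).1
      ((AlgSpace.repWith_universallyClosed_iff (AlgSp.representable_yon_map j)).2 hc)
  haveI : IsProper j.left := (isProper_iff j.left).2 ⟨‹_›, ‹_›, ‹_›⟩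
  haveI : IsClosedImmersion j.left := (IsClosedImmersion.iff_isProper_and_mono _).2 ⟨‹_›, hmono⟩
  haveI : Surjective j.left := ⟨fun t => by
    obtain ⟨w, hw⟩ := hasurj (AlgSp.Points.schemeHomeo U t)
    obtain ⟨t', ht⟩ := (AlgSp.Points.schemeHomeo R).surjective (AlgSp.Points.map r w)
    refine ⟨t', (AlgSp.Points.schemeHomeo U).injective ?_⟩
    rw [← AlgSp.Points.map_yon_map_apply, ht, ← AlgSp.Points.map_comp, hr, hw]⟩
  haveI : IsIso j.left := isIso_of_isClosedImmersion_of_surjective j.left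
  haveI : IsIso ((Over.forget S).map j) := ‹_›
  haveI : IsIso j := isIso_of_reflects_iso j (Over.forget S)
  have hsec : sec φ = sec ψ := by
    have e₁ := congrArg (· ≫ prod.fst) sq.w
    have e₂ := congrArg (· ≫ prod.snd) sq.w
    simp only [Category.assoc, l, Limits.prod.lift_fst, Limits.prod.lift_snd, Limits.diag] at e₁ e₂
    exact (cancel_epi ((AlgSp.yon S).map j)).1 (e₁.symm.trans e₂)
  refine eq_of_atlas gX hsm hsu φ ψ ?_
  have hm : mapOf (BasedFunctor.comp (AlgSt.toOverCat U) (BasedFunctor.comp x φ)) =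
      mapOf (BasedFunctor.comp (AlgSt.toOverCat U) (BasedFunctor.comp x ψ)) := congrArg InducedCategory.Hom.hom hsec
  exact wlIso (AlgSt.ofOverCat U) (isoMapOf _ ≪≫ eqToIso (congrArg Stk.ofPshMap hm) ≪≫ (isoMapOf _).symm)

theorem isCoarseModuli_of_section (h𝒳 : IsAlgStack Scheme.fppfPrecoverage 𝒳) (hZ : AlgSp.IsAlgSpace Z)
    (hred : AlgSt.SmoothLocally (fun X => AlgebraicGeometry.IsReduced X) 𝒳) (hf₁ : AlgSt.IsSeparatedMor f)
    (hf₅ : AlgSt.GeomPtBij f) (e : BasedFunctor.comp s f ≅ BasedFunctor.id (AlgSt.ofSp Z)) :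
    AlgSt.IsCoarseModuli f := by
  have hs := with_section s e hf₁
  refine ⟨⟨hZ, fun N hN φ => ?_⟩, hf₅⟩
  let g : Z ⟶ N := ObjectProperty.homMk (mapOf (BasedFunctor.comp s φ))
  have i : BasedFunctor.comp s (BasedFunctor.comp f (AlgSt.ofSpMap g)) ≅ BasedFunctor.comp s φ :=
    wrIso e (AlgSt.ofSpMap g) ≪≫ (isoMapOf (BasedFunctor.comp s φ)).symm
  refine ⟨g, ⟨eqToIso (eq_of_proper_surjective h𝒳 hZ hred hs (isSurjective_section h𝒳.isStack.1 hf₅ e) hN _ _ i)⟩,
    fun g' hg' => ?_⟩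
  obtain ⟨k⟩ := hg'
  have e' := mapOf_congr (P := Z.obj) (Q := N.obj)
    ((wrIso e (AlgSt.ofSpMap g')).symm ≪≫ wlIso s k : BasedFunctor.comp (BasedFunctor.id _) (AlgSt.ofSpMap g') ≅ BasedFunctor.comp s φ)
  apply ObjectProperty.hom_ext
  refine Eq.trans ?_ e'
  exact (mapOf_ofPshMap g'.hom).symm

end Groth.Agent.Coarse16
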